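import Cfsg.Agent.Lib.VecPerm48.Orbits
import Cfsg.Agent.Lib.Characters.Transitive
import Cfsg.Agent.Lib.Isometry.Inner

/-!
The permutation character of `SL_{m+3}(q)` on non-zero vectors is `1` plus `q - 1` distinct
irreducible characters.
-/

set_option autoImplicit false

namespace Cfsg.Agent.Lib.VecPerm48

open Matrix MulAction
open Cfsg.Agent.Lib.Characters.Basic Cfsg.Agent.Lib.Characters.Transitive
open Cfsg.Agent.Lib.Induced.Basic

/-- Pieces of a character whose number equals its norm are irreducible and pairwise distinct. -/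
theorem pieces_irr {G : Type*} [Group G] [Fintype G] {ι : Type*} [Fintype ι] (f : ι → G → ℂ)
    (hf : ∀ i, Cfsg.IsCharacter G (f i)) (h0 : ∀ i, f i ≠ 0)
    (hnorm : Cfsg.classInner (∑ i, f i) (∑ i, f i) = (Fintype.card ι : ℂ)) :
    (∀ i, Cfsg.IsIrrCharacter G (f i)) ∧ Function.Injective f := by
  classical
  choose k hk using fun i j => exists_classInner_nat (hf i) (hf j)
  have hd : ∀ i, 1 ≤ k i i := fun i => by
    rw [Nat.one_le_iff_ne_zero]
    intro h
    exact h0 i (Cfsg.Agent.Lib.Isometry.Inner.eq_zero_of_classInner_self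
      (by rw [hk, h, Nat.cast_zero]))
  have hsum : ∑ i, ∑ j, k i j = Fintype.card ι := by
    rw [classInner_sum_left] at hnorm
    simp only [classInner_sum_right, hk] at hnorm
    exact_mod_cast hnorm
  have hrow : ∀ i, ∑ j, k i j = 1 := by
    have hge : ∀ i ∈ Finset.univ, 1 ≤ ∑ j, k i j := fun i _ =>
      (hd i).trans (Finset.single_le_sum (fun j _ => Nat.zero_le _) (Finset.mem_univ i))
    have := (Finset.sum_eq_sum_iff_of_le hge).1 (by rw [hsum]; simp)
    exact fun i => (this i (Finset.mem_univ i)).symm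
  have hoff : ∀ i j, i ≠ j → k i j = 0 := fun i j hij => by
    have := hrow i
    rw [← Finset.add_sum_erase _ _ (Finset.mem_univ i)] at this
    have h1 := hd i
    have h2 : ∑ x ∈ Finset.univ.erase i, k i x = 0 := by omega
    exact Finset.sum_eq_zero_iff.1 h2 j (Finset.mem_erase.2 ⟨hij.symm, Finset.mem_univ j⟩)
  have hdiag : ∀ i, k i i = 1 := fun i => by
    have := hrow i
    rw [Finset.sum_eq_single i (fun j _ hj => hoff i j hj.symm) (by simp)] at this
    exact this
  refine ⟨fun i => isIrrCharacter_of_classInner_self (hf i) (by rw [hk, hdiag, Nat.cast_one]),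
    fun i j hij => ?_⟩
  by_contra hne
  have := hk i j
  rw [← hij, hk, hdiag, hoff i j hne] at this
  norm_num at this

variable {F : Type*} [Field F] {m : ℕ}

/-- The stabiliser of the first coordinate line. -/
def lineStab (F : Type*) [Field F] [Fintype F] (m : ℕ) :
    Subgroup (Matrix.SpecialLinearGroup (Fin (m + 3)) F) where
  carrier := {g | ∃ a : Fˣ, (g : Matrix (Fin (m + 3)) (Fin (m + 3)) F) *ᵥ (e F 0).1 = (a : F) • (e F 0).1}
  one_mem' := ⟨1, by rw [Units.val_one, one_smul]; exact one_mulVec _⟩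
  mul_mem' := by
    rintro g h ⟨a, ha⟩ ⟨b, hb⟩
    refine ⟨a * b, ?_⟩
    show ((g : Matrix (Fin (m + 3)) (Fin (m + 3)) F) * (h : Matrix (Fin (m + 3)) (Fin (m + 3)) F)) *ᵥ
      (e F 0).1 = _
    rw [← mulVec_mulVec, hb, mulVec_smul, ha, smul_smul, mul_comm, Units.val_mul]
  inv_mem' := by
    rintro g ⟨a, ha⟩
    refine ⟨a⁻¹, ?_⟩
    have e1 : ((g⁻¹ : Matrix.SpecialLinearGroup (Fin (m + 3)) F) :
        Matrix (Fin (m + 3)) (Fin (m + 3)) F) * (g : Matrix (Fin (m + 3)) (Fin (m + 3)) F) = 1 :=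
      congrArg Subtype.val (inv_mul_cancel g)
    have h2 := congrArg (fun x => ((g⁻¹ : Matrix.SpecialLinearGroup (Fin (m + 3)) F) :
        Matrix (Fin (m + 3)) (Fin (m + 3)) F) *ᵥ x) ha
    simp only [mulVec_mulVec, e1, one_mulVec, mulVec_smul] at h2
    conv_rhs => rw [h2, smul_smul, ← Units.val_mul, inv_mul_cancel, Units.val_one, one_smul]

variable [Fintype F]

theorem entry_of_line {g : Matrix.SpecialLinearGroup (Fin (m + 3)) F} {a : F}
    (h : (g : Matrix (Fin (m + 3)) (Fin (m + 3)) F) *ᵥ (e F 0).1 = a • (e F 0).1) :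
    (g : Matrix (Fin (m + 3)) (Fin (m + 3)) F) 0 0 = a := by
  rw [← mulVec_e g 0 0, h]
  simp [e]

theorem line_mul {ι : Type*} [Fintype ι] (A B : Matrix ι ι F) (v : ι → F) (a b : F)
    (hA : A *ᵥ v = a • v) (hB : B *ᵥ v = b • v) : (A * B) *ᵥ v = (a * b) • v := by
  rw [← mulVec_mulVec, hB, mulVec_smul, hA, smul_smul, mul_comm]

/-- The eigenvalue on the first coordinate vector. -/
noncomputable def eig (F : Type*) [Field F] [Fintype F] (m : ℕ) : lineStab F m →* Fˣ :=
  MonoidHom.mk' (fun g => g.2.choose) (fun g h => by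
    have hg := g.2.choose_spec
    have hh := h.2.choose_spec
    have hgh := (g * h).2.choose_spec
    apply Units.ext
    rw [← entry_of_line hgh, Units.val_mul]
    apply entry_of_line
    show (((g : Matrix.SpecialLinearGroup (Fin (m + 3)) F) : Matrix (Fin (m + 3)) (Fin (m + 3)) F) *
      ((h : Matrix.SpecialLinearGroup (Fin (m + 3)) F) : Matrix (Fin (m + 3)) (Fin (m + 3)) F)) *ᵥ _ = _
    exact line_mul _ _ _ _ _ hg hh)

theorem eig_spec (g : lineStab F m) :
    ((g : Matrix.SpecialLinearGroup (Fin (m + 3)) F) : Matrix (Fin (m + 3)) (Fin (m + 3)) F) *ᵥ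
      (e F 0).1 = (eig F m g : F) • (e F 0).1 := g.2.choose_spec

theorem mem_stab_iff (x : Matrix.SpecialLinearGroup (Fin (m + 3)) F) :
    x ∈ stabilizer (Matrix.SpecialLinearGroup (Fin (m + 3)) F) (e F 0 : NZ F m) ↔
      ∃ h : x ∈ lineStab F m, eig F m ⟨x, h⟩ = 1 := by
  rw [mem_stabilizer_iff, Subtype.ext_iff, smul_coe]
  constructor
  · intro hx
    have hm : x ∈ lineStab F m := ⟨1, by rw [Units.val_one, one_smul, hx]⟩
    refine ⟨hm, Units.ext ?_⟩
    rw [← entry_of_line (eig_spec ⟨x, hm⟩), Units.val_one]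
    exact entry_of_line (by rw [one_smul]; exact hx)
  · rintro ⟨hm, h1⟩
    rw [eig_spec ⟨x, hm⟩, h1, Units.val_one, one_smul]

theorem eig_surjective : Function.Surjective (eig F m) := by
  intro a
  obtain ⟨g, hg⟩ := MulAction.exists_smul_eq (Matrix.SpecialLinearGroup (Fin (m + 3)) F)
    (e F 0 : NZ F m) ⟨(a : F) • (e F 0).1, smul_ne_zero a.ne_zero (e F 0).2⟩
  have hg' := congrArg Subtype.val hg
  rw [smul_coe] at hg'
  refine ⟨⟨g, a, hg'⟩, Units.ext ?_⟩
  rw [← entry_of_line (eig_spec ⟨g, a, hg'⟩)]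
  exact entry_of_line hg'

theorem card_lineStab : Nat.card (lineStab F m) = Nat.card Fˣ *
    Nat.card (stabilizer (Matrix.SpecialLinearGroup (Fin (m + 3)) F) (e F 0 : NZ F m)) := by
  rw [Subgroup.card_eq_card_quotient_mul_card_subgroup (eig F m).ker]
  congr 1
  · exact Nat.card_congr (QuotientGroup.quotientKerEquivOfSurjective _ eig_surjective).toEquiv
  · refine Nat.card_congr
      { toFun := fun x => ⟨x.1.1, (mem_stab_iff _).2 ⟨x.1.2, MonoidHom.mem_ker.1 x.2⟩⟩
        invFun := fun x => ⟨⟨x.1, ((mem_stab_iff _).1 x.2).1⟩,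
          MonoidHom.mem_ker.2 ((mem_stab_iff _).1 x.2).2⟩
        left_inv := fun x => rfl
        right_inv := fun x => rfl }

theorem exists_decomposition [DecidableEq F] :
    ∃ χ : Fin (Fintype.card F - 1) → (Matrix.SpecialLinearGroup (Fin (m + 3)) F → ℂ),
      (∀ i, Cfsg.IsIrrCharacter (Matrix.SpecialLinearGroup (Fin (m + 3)) F) (χ i)) ∧
      Function.Injective χ ∧
      ∀ g, permChar (NZ F m) g = 1 + ∑ i, χ i g := by
  classical
  let G := Matrix.SpecialLinearGroup (Fin (m + 3)) F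
  let Θ := Fˣ →* ℂˣ
  have hΘ : Nat.card Θ = Nat.card Fˣ := CommGroup.card_monoidHom_of_hasEnoughRootsOfUnity Fˣ ℂ
  have : Finite Θ := Nat.finite_of_card_ne_zero (by rw [hΘ]; exact Nat.card_pos.ne')
  have : Fintype Θ := Fintype.ofFinite Θ
  have hsum : ∀ a : Fˣ, ∑ θ : Θ, ((θ a : ℂˣ) : ℂ) = if a = 1 then (Nat.card Fˣ : ℂ) else 0 := by
    intro a
    by_cases ha : a = 1
    · rw [if_pos ha, ← hΘ, Nat.card_eq_fintype_card]
      simp [ha]
    · rw [if_neg ha]
      obtain ⟨θ₀, hθ₀⟩ := CommGroup.exists_apply_ne_one_of_hasEnoughRootsOfUnity Fˣ ℂ ha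
      have h1 : ((θ₀ a : ℂˣ) : ℂ) * ∑ θ : Θ, ((θ a : ℂˣ) : ℂ) = ∑ θ : Θ, ((θ a : ℂˣ) : ℂ) := by
        rw [Finset.mul_sum]
        exact Fintype.sum_equiv (Equiv.mulLeft θ₀) _ _ (fun θ => rfl)
      have h2 : (((θ₀ a : ℂˣ) : ℂ) - 1) * ∑ θ : Θ, ((θ a : ℂˣ) : ℂ) = 0 := by
        rw [sub_mul, one_mul, h1, sub_self]
      exact (mul_eq_zero.1 h2).resolve_left (sub_ne_zero.2 fun h => hθ₀ (Units.ext h))
  let c : Θ → G → ℂ := fun θ =>
    Cfsg.indFun (lineStab F m) (fun h => ((θ (eig F m h) : ℂˣ) : ℂ))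
  have hchar : ∀ θ, Cfsg.IsCharacter G (c θ) := fun θ =>
    Cfsg.Agent.Lib.Induced.Character.isCharacter_indFun _
      (Cfsg.Agent.Lib.Induced.Character.isCharacter_hom (θ.comp (eig F m)))
  have hcsum : ∀ g : G, permChar (NZ F m) g = ∑ θ, c θ g := by
    intro g
    show (Nat.card (fixedBy (NZ F m) g) : ℂ) = _
    rw [congrFun (card_fixedBy_eq_indFun (G := G) (NZ F m) (e F 0)) g]
    simp only [c, indFun_apply]
    rw [← Finset.mul_sum, Finset.sum_comm, card_lineStab, Nat.cast_mul]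
    have hne : (Nat.card Fˣ : ℂ) ≠ 0 := Nat.cast_ne_zero.2 Nat.card_pos.ne'
    rw [mul_inv, mul_assoc, mul_left_comm]
    congr 1
    rw [Finset.mul_sum]
    refine Finset.sum_congr rfl fun x _ => ?_
    by_cases hm : x⁻¹ * g * x ∈ lineStab F m
    · simp only [dif_pos hm]
      rw [hsum]
      by_cases h1 : eig F m ⟨_, hm⟩ = 1
      · rw [if_pos h1, dif_pos ((mem_stab_iff _).2 ⟨hm, h1⟩), inv_mul_cancel₀ hne]
      · rw [if_neg h1, dif_neg (fun h => h1 ((mem_stab_iff _).1 h).2), mul_zero]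
    · simp only [dif_neg hm, Finset.sum_const_zero, mul_zero]
      rw [dif_neg (fun h => hm ((mem_stab_iff _).1 h).1)]
  have hidx : (lineStab F m).index ≠ 1 := by
    rw [Ne, Subgroup.index_eq_one]
    intro htop
    obtain ⟨g, hg⟩ := MulAction.exists_smul_eq G (e F 0 : NZ F m) (e F 1)
    obtain ⟨a, ha⟩ : g ∈ lineStab F m := by rw [htop]; trivial
    have h := congrArg Subtype.val hg
    rw [smul_coe, ha] at h
    have := congrFun h 1
    simp [e] at this
  have hone : c 1 = permChar (G ⧸ lineStab F m) := by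
    funext g
    show Cfsg.indFun (lineStab F m) _ g = (Nat.card (fixedBy (G ⧸ lineStab F m) g) : ℂ)
    rw [congrFun (card_fixedBy_eq_indFun (G := G) (G ⧸ lineStab F m) ((1 : G) : G ⧸ lineStab F m)) g]
    have hcong : ∀ H K : Subgroup G, H = K →
        Cfsg.indFun H (fun _ => (1 : ℂ)) = Cfsg.indFun K (fun _ => (1 : ℂ)) := by rintro H K rfl; rfl
    rw [hcong _ _ (MulAction.stabilizer_quotient _)]
    rfl
  let f : Option Θ → G → ℂ := fun o => match o with
    | none => fun _ => 1
    | some θ => if θ = 1 then (fun g => c 1 g - 1) else c θ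
  have hf : ∀ o, Cfsg.IsCharacter G (f o) := by
    intro o
    rcases o with _ | θ
    · exact isCharacter_one
    · show Cfsg.IsCharacter G (if θ = 1 then (fun g => c 1 g - 1) else c θ)
      split
      · rw [hone]; exact isCharacter_permChar_sub_one _
      · exact hchar θ
  have h0 : ∀ o, f o ≠ 0 := by
    intro o hzero
    have h := congrFun hzero 1
    rcases o with _ | θ
    · simp [f] at h
    · by_cases hθ : θ = 1
      · simp only [f, if_pos hθ, c, indFun_one, Pi.zero_apply, sub_eq_zero] at h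
        rw [show (((1 : Θ) (eig F m 1) : ℂˣ) : ℂ) = 1 from rfl, mul_one] at h
        exact hidx (by exact_mod_cast h)
      · simp only [f, if_neg hθ, c, indFun_one, Pi.zero_apply, map_one, Units.val_one,
          mul_one, Nat.cast_eq_zero] at h
        exact Subgroup.index_ne_zero_of_finite h
  have htot : ∀ g, permChar (NZ F m) g = (∑ o, f o) g := by
    intro g
    rw [hcsum, Fintype.sum_option, Pi.add_apply, Finset.sum_apply,
      ← Finset.add_sum_erase _ _ (Finset.mem_univ (1 : Θ)),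
      ← Finset.add_sum_erase _ _ (Finset.mem_univ (1 : Θ))]
    rw [Finset.sum_congr rfl (fun θ hθ => show f (some θ) g = c θ g by
      simp only [f, if_neg (Finset.ne_of_mem_erase hθ)])]
    simp only [f, if_true]
    ring
  obtain ⟨hirr, hinj⟩ := pieces_irr f hf h0 (by
    rw [← funext htot, classInner_permChar, card_orbits_prod, Fintype.card_option,
      ← Nat.card_eq_fintype_card (α := Θ), hΘ, Nat.card_units, Nat.card_eq_fintype_card]
    congr 1
    have : 1 ≤ Fintype.card F := Fintype.card_pos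
    omega)
  have hcardΘ : Fintype.card Θ = Fintype.card F - 1 := by
    rw [← Nat.card_eq_fintype_card, hΘ, Nat.card_units, Nat.card_eq_fintype_card]
  let eΘ : Fin (Fintype.card F - 1) ≃ Θ := (Fintype.equivFinOfCardEq hcardΘ).symm
  refine ⟨fun i => f (some (eΘ i)), fun i => hirr (some (eΘ i)), fun i j h => eΘ.injective
    (Option.some_injective _ (hinj h)), fun g => ?_⟩
  rw [htot, Fintype.sum_option, Pi.add_apply, Finset.sum_apply]
  congr 1
  exact (Equiv.sum_comp eΘ (fun θ => f (some θ) g)).symm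

end Cfsg.Agent.Lib.VecPerm48
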