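import Mathlib

/-!
`SL_{m+3}(F)` on the non-zero vectors: transitivity on pairs of independent vectors, and the
orbits on pairs.
-/

set_option autoImplicit false

namespace Cfsg.Agent.Lib.VecPerm48

open Matrix Module MulAction

variable {F : Type*} [Field F] {m : ℕ}

/-- The non-zero vectors. -/
abbrev NZ (F : Type*) [Field F] (m : ℕ) := {v : Fin (m + 3) → F // v ≠ 0}

theorem mulVec_ne_zero (g : Matrix.SpecialLinearGroup (Fin (m + 3)) F) {v : Fin (m + 3) → F}
    (hv : v ≠ 0) : (g : Matrix (Fin (m + 3)) (Fin (m + 3)) F) *ᵥ v ≠ 0 := fun h => hv (by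
  have e : ((g⁻¹ : Matrix.SpecialLinearGroup (Fin (m + 3)) F) :
      Matrix (Fin (m + 3)) (Fin (m + 3)) F) * (g : Matrix (Fin (m + 3)) (Fin (m + 3)) F) = 1 := by
    exact congrArg Subtype.val (inv_mul_cancel g)
  rw [← one_mulVec v, ← e, ← mulVec_mulVec, h, mulVec_zero])

instance instAction : MulAction (Matrix.SpecialLinearGroup (Fin (m + 3)) F) (NZ F m) where
  smul g v := ⟨(g : Matrix (Fin (m + 3)) (Fin (m + 3)) F) *ᵥ v.1, mulVec_ne_zero g v.2⟩
  one_smul v := Subtype.ext (one_mulVec v.1)
  mul_smul g h v := Subtype.ext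
    ((mulVec_mulVec v.1 (g : Matrix (Fin (m + 3)) (Fin (m + 3)) F)
      (h : Matrix (Fin (m + 3)) (Fin (m + 3)) F)).symm)

theorem smul_coe (g : Matrix.SpecialLinearGroup (Fin (m + 3)) F) (v : NZ F m) :
    (g • v).1 = (g : Matrix (Fin (m + 3)) (Fin (m + 3)) F) *ᵥ v.1 := rfl

/-- Coordinate vectors. -/
def e (F : Type*) [Field F] {m : ℕ} (i : Fin (m + 3)) : NZ F m :=
  ⟨Pi.single i 1, fun h => one_ne_zero (α := F) (by simpa using congrFun h i)⟩

theorem mulVec_e (g : Matrix.SpecialLinearGroup (Fin (m + 3)) F) (i j : Fin (m + 3)) :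
    ((g : Matrix (Fin (m + 3)) (Fin (m + 3)) F) *ᵥ (e F i).1) j =
      (g : Matrix (Fin (m + 3)) (Fin (m + 3)) F) j i := by simp [e]

theorem exists_smul_pair {v w : Fin (m + 3) → F} (hli : LinearIndependent F ![v, w]) :
    ∃ g : Matrix.SpecialLinearGroup (Fin (m + 3)) F,
      (g • e F 0).1 = v ∧ (g • e F 1).1 = w := by
  classical
  let b := Basis.extend hli.linearIndepOn_id
  have : Fintype _ := FiniteDimensional.fintypeBasisIndex b
  have hcard := Module.finrank_eq_card_basis b
  rw [Module.finrank_fin_fun] at hcard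
  let e₀ := (Fintype.equivFinOfCardEq hcard.symm).symm
  have hsub := hli.linearIndepOn_id.subset_extend (Set.subset_univ _)
  let v' := e₀.symm ⟨v, hsub ⟨0, rfl⟩⟩
  let e₁ := (Equiv.swap 0 v').trans e₀
  let w' := e₁.symm ⟨w, hsub ⟨1, rfl⟩⟩
  let e₂ := (Equiv.swap 1 w').trans e₁
  have hvw : v ≠ w := fun h => by
    have := hli.injective (a₁ := (0 : Fin 2)) (a₂ := 1) (by simpa using h)
    simp at this
  have hw0 : w' ≠ 0 := by
    intro h
    apply hvw
    have := congrArg (fun i => (e₁ i).1) h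
    simp only [w', Equiv.apply_symm_apply] at this
    rw [this]
    simp [e₁, v']
  have h0 : ((e₂ 0) : Fin (m + 3) → F) = v := by
    simp only [e₂, Equiv.trans_apply]
    rw [Equiv.swap_apply_of_ne_of_ne (by simp) hw0.symm]
    simp [e₁, v']
  have h1 : ((e₂ 1) : Fin (m + 3) → F) = w := by
    simp [e₂, w']
  let c := b.reindex e₂.symm
  have hc : ∀ i, c i = ((e₂ i) : Fin (m + 3) → F) := fun i => by simp [c, b]
  let M : Matrix (Fin (m + 3)) (Fin (m + 3)) F := Matrix.of fun i j => c j i
  have hM : M.det ≠ 0 := by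
    refine IsUnit.ne_zero ((Matrix.isUnit_iff_isUnit_det M).1 ?_)
    rw [← Matrix.linearIndependent_cols_iff_isUnit]
    exact c.linearIndependent
  let N := M.updateCol 2 (fun i => M.det⁻¹ * M i 2)
  have hN : N.det = 1 := by
    have := Matrix.det_updateCol_smul M 2 M.det⁻¹ (fun i => M i 2)
    simp only [N]
    rw [show (fun i => M.det⁻¹ * M i 2) = M.det⁻¹ • (fun i => M i 2) from rfl, this,
      Matrix.updateCol_eq_self, inv_mul_cancel₀ hM]
  refine ⟨⟨N, hN⟩, ?_, ?_⟩
  · funext j
    show (N *ᵥ (e F 0).1) j = v j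
    rw [← h0, ← hc]
    have h02 : (0 : Fin (m + 3)) ≠ 2 := by simp [Fin.ext_iff, Nat.mod_eq_of_lt]
    simp [N, M, e, Matrix.updateCol_apply, h02]
  · funext j
    show (N *ᵥ (e F 1).1) j = w j
    rw [← h1, ← hc]
    have h12 : (1 : Fin (m + 3)) ≠ 2 := by simp [Fin.ext_iff, Nat.mod_eq_of_lt]
    simp [N, M, e, Matrix.updateCol_apply, h12]

theorem li_e01 : LinearIndependent F ![(e F (0 : Fin (m + 3))).1, (e F 1).1] := by
  rw [LinearIndependent.pair_iff]
  intro s t h
  have h0 := congrFun h 0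
  have h1 := congrFun h 1
  simp [e] at h0 h1
  exact ⟨h0, h1⟩

instance instPretransitive :
    IsPretransitive (Matrix.SpecialLinearGroup (Fin (m + 3)) F) (NZ F m) := by
  refine ⟨fun v w => ?_⟩
  have key : ∀ u : NZ F m, ∃ g : Matrix.SpecialLinearGroup (Fin (m + 3)) F, g • e F 0 = u := by
    intro u
    obtain ⟨w, hw⟩ : ∃ w, LinearIndependent F ![u.1, w] := by
      by_contra h
      push Not at h
      have : ∀ w, ∃ c : F, c • u.1 = w := fun w => by
        have := h w
        rw [LinearIndependent.pair_iff' u.2] at this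
        push Not at this
        exact this
      obtain ⟨a, ha⟩ := this (e F 0).1
      obtain ⟨b, hb⟩ := this (e F 1).1
      have hli := LinearIndependent.pair_iff.1 (li_e01 (F := F) (m := m)) b (-a) (by
        rw [← ha, ← hb, smul_smul, smul_smul, ← add_smul]
        simp [mul_comm])
      have : a = 0 := neg_eq_zero.1 hli.2
      rw [this, zero_smul] at ha
      exact (e F (0 : Fin (m + 3))).2 ha.symm
    obtain ⟨g, hg, -⟩ := exists_smul_pair hw
    exact ⟨g, Subtype.ext hg⟩
  obtain ⟨g, rfl⟩ := key v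
  obtain ⟨k, rfl⟩ := key w
  exact ⟨k * g⁻¹, by simp [mul_smul]⟩

theorem card_orbits_prod [Fintype F] :
    Nat.card (orbitRel.Quotient (Matrix.SpecialLinearGroup (Fin (m + 3)) F) (NZ F m × NZ F m)) =
      Fintype.card F := by
  classical
  let f : Option Fˣ → orbitRel.Quotient (Matrix.SpecialLinearGroup (Fin (m + 3)) F)
      (NZ F m × NZ F m) := fun o => match o with
    | none => ⟦(e F 0, e F 1)⟧
    | some a => ⟦(e F 0, ⟨(a : F) • (e F 0).1, smul_ne_zero a.ne_zero (e F 0).2⟩)⟧
  have hmk : ∀ x y : NZ F m × NZ F m,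
      ((⟦x⟧ : orbitRel.Quotient (Matrix.SpecialLinearGroup (Fin (m + 3)) F) (NZ F m × NZ F m)) = ⟦y⟧) ↔
        ∃ g : Matrix.SpecialLinearGroup (Fin (m + 3)) F, g • y = x := fun x y => Quotient.eq
  have hbij : Function.Bijective f := by
    constructor
    · intro o o' h
      rcases o with _ | a <;> rcases o' with _ | a'
      · rfl
      all_goals obtain ⟨g, hg⟩ := (hmk _ _).1 h
      all_goals simp only [Prod.smul_mk, Prod.mk.injEq, Subtype.ext_iff, smul_coe, mulVec_smul] at hg
      · rw [hg.1] at hg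
        have := congrFun hg.2 1
        simp [e] at this
      · exfalso
        have h1 : (g : Matrix (Fin (m + 3)) (Fin (m + 3)) F) *ᵥ
            ((a : F) • (e F 0).1 - (e F 1).1) = 0 := by
          rw [mulVec_sub, mulVec_smul, hg.1, hg.2, sub_self]
        by_cases h0 : (a : F) • (e F (0 : Fin (m + 3))).1 - (e F 1).1 = 0
        · have := congrFun h0 1
          simp [e] at this
        · exact mulVec_ne_zero g h0 h1
      · rw [hg.1] at hg
        have := congrFun hg.2 0
        simp [e] at this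
        exact congrArg some (Units.ext this.symm)
    · intro z
      induction z using Quotient.inductionOn with
      | _ z =>
        obtain ⟨v, w⟩ := z
        by_cases hli : LinearIndependent F ![v.1, w.1]
        · obtain ⟨g, h0, h1⟩ := exists_smul_pair hli
          exact ⟨none, ((hmk _ _).2 ⟨g, Prod.ext (Subtype.ext h0) (Subtype.ext h1)⟩).symm⟩
        · rw [LinearIndependent.pair_iff' v.2] at hli
          push Not at hli
          obtain ⟨c, hc⟩ := hli
          have hc0 : c ≠ 0 := fun h => w.2 (by rw [← hc, h, zero_smul])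
          obtain ⟨g, hg⟩ := MulAction.exists_smul_eq
            (Matrix.SpecialLinearGroup (Fin (m + 3)) F) (e F 0) v
          refine ⟨some (Units.mk0 c hc0), ((hmk _ _).2 ⟨g, Prod.ext hg (Subtype.ext ?_)⟩).symm⟩
          show (g : Matrix (Fin (m + 3)) (Fin (m + 3)) F) *ᵥ (c • (e F 0).1) = w.1
          rw [mulVec_smul, ← smul_coe, hg, hc]
  rw [← Nat.card_congr (Equiv.ofBijective f hbij), Finite.card_option, Nat.card_units,
    Nat.card_eq_fintype_card]
  have : 1 ≤ Fintype.card F := Fintype.card_pos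
  omega

end Cfsg.Agent.Lib.VecPerm48
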